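import Mathlib
import Cfsg.Agent.H558.CsBase
import Cfsg.Agent.S0033
import Cfsg.Agent.Solvable.FpfCyclic
import Cfsg.Agent.Characters.CNBasic

/-!
# Fixed-point-free actions modulo the centre (helper558, for S4284)
-/

set_option autoImplicit false

namespace Cfsg.Agent.H558.Cs

open Subgroup

variable {G : Type*} [Group G]

theorem le_normalizer_of {H N : Subgroup G} (hN : ∀ g ∈ N, ∀ h ∈ H, g * h * g⁻¹ ∈ H) :
    N ≤ normalizer (H : Set G) := by
  intro g hg
  rw [mem_normalizer_iff]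
  intro h
  refine ⟨hN g hg h, fun hh => ?_⟩
  have := hN g⁻¹ (inv_mem hg) _ hh
  have e : g⁻¹ * (g * h * g⁻¹) * g⁻¹⁻¹ = h := by group
  rwa [e] at this

/-- conjugation action of `N` on the image of `H` in `G / Z(G)` -/
noncomputable def act (H N : Subgroup G) (hN : ∀ g ∈ N, ∀ h ∈ H, g * h * g⁻¹ ∈ H) :
    N →* MulAut (H.map (QuotientGroup.mk' (center G))) :=
  (H.map (QuotientGroup.mk' (center G))).normalizerMonoidHom.comp
    (((QuotientGroup.mk' (center G)).comp N.subtype).codRestrict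
      (normalizer ((H.map (QuotientGroup.mk' (center G)) : Subgroup (G ⧸ center G)) : Set _))
      (fun g => le_normalizer_of (N := N.map (QuotientGroup.mk' (center G))) (by
        rintro _ ⟨g, hg, rfl⟩ _ ⟨h, hh, rfl⟩
        exact ⟨g * h * g⁻¹, hN g hg h hh, by simp⟩) (mem_map_of_mem _ g.2)))

theorem act_apply (H N : Subgroup G) (hN : ∀ g ∈ N, ∀ h ∈ H, g * h * g⁻¹ ∈ H) (g : N)
    (x : H.map (QuotientGroup.mk' (center G))) :
    ((act H N hN g x : H.map (QuotientGroup.mk' (center G))) : G ⧸ center G) =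
      QuotientGroup.mk' (center G) g * x * (QuotientGroup.mk' (center G) g)⁻¹ := rfl

theorem eq_of_comm_mod_center {q : ℕ} [Fact q.Prime] {t u z : G} (ht : PEl q t)
    (hz : z ∈ center G) (hzq : ¬ q ∣ orderOf z) (h : t * u * t⁻¹ = u * z) : t * u = u * t := by
  have hn : ∀ n : ℕ, t ^ n * u * (t ^ n)⁻¹ = u * z ^ n := by
    intro n
    induction n with
    | zero => simp
    | succ n ih =>
      have : t ^ (n + 1) * u * (t ^ (n + 1))⁻¹ = t * (t ^ n * u * (t ^ n)⁻¹) * t⁻¹ := by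
        rw [pow_succ']; group
      rw [this, ih]
      have hzn : z ^ n ∈ center G := pow_mem hz n
      calc t * (u * z ^ n) * t⁻¹ = t * u * (z ^ n * t⁻¹) := by group
        _ = t * u * (t⁻¹ * z ^ n) := by rw [(mem_center_iff.1 hzn t⁻¹)]
        _ = t * u * t⁻¹ * z ^ n := by group
        _ = u * z ^ (n + 1) := by rw [h, pow_succ', mul_assoc]
  obtain ⟨k, hk⟩ := ht
  have h1 := hn (q ^ k)
  rw [hk, one_mul, inv_one, mul_one] at h1
  have h2 : z ^ q ^ k = 1 := by
    have : u * z ^ q ^ k = u * 1 := by rw [mul_one]; exact h1.symm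
    exact mul_left_cancel this
  have h3 : z = 1 := PEl.eq_one (Fact.out : q.Prime) ⟨k, h2⟩ hzq
  rw [h3, mul_one] at h
  rw [mul_inv_eq_iff_eq_mul] at h
  exact h

theorem act_fix [Finite G] {q : ℕ} [Fact q.Prime] (H N : Subgroup G)
    (hN : ∀ g ∈ N, ∀ h ∈ H, g * h * g⁻¹ ∈ H)
    (hH : ¬ q ∣ Nat.card H) {t : G} (ht : t ∈ N) (htq : PEl q t) {u : G} (hu : u ∈ H)
    (h : act H N hN ⟨t, ht⟩ ⟨QuotientGroup.mk' (center G) u, mem_map_of_mem _ hu⟩ =
      ⟨QuotientGroup.mk' (center G) u, mem_map_of_mem _ hu⟩) : t * u = u * t := by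
  have h1 := congrArg Subtype.val h
  rw [act_apply] at h1
  change (QuotientGroup.mk' (center G) t) * (QuotientGroup.mk' (center G) u) *
    (QuotientGroup.mk' (center G) t)⁻¹ = QuotientGroup.mk' (center G) u at h1
  rw [← map_mul, ← map_inv, ← map_mul] at h1
  have h2 : u⁻¹ * (t * u * t⁻¹) ∈ center G := by
    have := (QuotientGroup.eq (s := center G)).1 h1.symm
    exact this
  refine eq_of_comm_mod_center htq h2 ?_ (by group)
  exact not_dvd_orderOf_of_mem hH (mul_mem (inv_mem hu) (hN t ht u hu))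

/-- **Thompson**: a `q'`-subgroup `H` with an element `t` of `q`-power order normalizing it, acting
with order dividing `q`, fixing only central elements, is nilpotent. -/
theorem isNilpotent_of_fpf [Finite G] {q : ℕ} [hq : Fact q.Prime] (H : Subgroup G)
    (hH : ¬ q ∣ Nat.card H) {t : G} (htq : PEl q t) (htH : ∀ h ∈ H, t * h * t⁻¹ ∈ H)
    (htp : ∀ h ∈ H, t ^ q * h = h * t ^ q) (hfix : ∀ u ∈ H, t * u = u * t → u ∈ center G) :
    Group.IsNilpotent H := by
  have hN : ∀ g ∈ zpowers t, ∀ h ∈ H, g * h * g⁻¹ ∈ H := by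
    have h1 : t ∈ normalizer (H : Set G) := mem_normalizer_fintype htH
    intro g hg h hh
    exact (mem_normalizer_iff.1 ((zpowers_le.2 h1) hg) h).1 hh
  set K := H.map (QuotientGroup.mk' (center G)) with hK
  have hnK : Group.IsNilpotent K := by
    rcases subsingleton_or_nontrivial K with hs | hs
    · infer_instance
    set φ := act H (zpowers t) hN ⟨t, mem_zpowers t⟩ with hφ
    have hfp : MonoidHom.FixedPointFree ((φ : K ≃* K) : K →* K) := by
      rintro ⟨x, hx⟩ hfx
      obtain ⟨u, hu, rfl⟩ := hx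
      have h1 : t * u = u * t := act_fix H (zpowers t) hN hH (mem_zpowers t) htq hu hfx
      apply Subtype.ext
      exact (QuotientGroup.eq_one_iff u).2 (hfix u hu h1)
    refine Cfsg.Agent.S0033.result φ hfp q hq.out ?_
    refine orderOf_eq_prime ?_ ?_
    · have : φ ^ q = act H (zpowers t) hN (⟨t, mem_zpowers t⟩ ^ q) := by rw [map_pow]
      rw [this]
      ext ⟨x, hx⟩
      obtain ⟨u, hu, rfl⟩ := hx
      rw [act_apply]
      change (QuotientGroup.mk' (center G) (t ^ q)) * (QuotientGroup.mk' (center G) u) *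
        (QuotientGroup.mk' (center G) (t ^ q))⁻¹ = QuotientGroup.mk' (center G) u
      rw [← map_mul, ← map_inv, ← map_mul, htp u hu, mul_inv_cancel_right]
    · intro h1
      obtain ⟨x, hx⟩ := exists_ne (1 : K)
      exact hx (hfp x (by rw [h1]; rfl))
  have hsurj : ∀ x : H, (QuotientGroup.mk' (center G)) x ∈ K := fun x => mem_map_of_mem _ x.2
  refine Subgroup.isNilpotent_of_ker_le_center
    (((QuotientGroup.mk' (center G)).comp H.subtype).codRestrict K hsurj) ?_
  intro x hx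
  rw [MonoidHom.mem_ker] at hx
  have h1 := congrArg Subtype.val hx
  have h2 : (x : G) ∈ center G := (QuotientGroup.eq_one_iff (x : G)).1 h1
  rw [mem_center_iff]
  intro g
  exact Subtype.ext (by simpa using mem_center_iff.1 h2 g)

/-- In a normal subgroup `A` of a `p`-group `P`, `A` not central in `G`, there is a non-central
element which is central modulo `Z(G)` in `P` and has its `p`-th power in `Z(G)`. -/
theorem exists_special [Finite G] {p : ℕ} [hp : Fact p.Prime] {P A : Subgroup G}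
    (hP : IsPGroup p P) (hAP : A ≤ P) (hA : ∀ g ∈ P, ∀ x ∈ A, g * x * g⁻¹ ∈ A)
    (hAZ : ¬ A ≤ center G) : ∃ x ∈ A, x ∉ center G ∧
      (∀ g ∈ P, g * x * g⁻¹ * x⁻¹ ∈ center G) ∧ x ^ p ∈ center G := by
  set π := QuotientGroup.mk' (center G) with hπ
  have hmem : ∀ g : G, π g = 1 ↔ g ∈ center G := fun g => QuotientGroup.eq_one_iff g
  obtain ⟨w, hw, hw1, hwc⟩ := Cfsg.Agent.Characters.CNBasic.exists_mem_center_of_normal
    (P.map π) (hP.map π) (A.map π) ((hP.to_le hAP).map π) (by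
      intro h
      apply hAZ
      intro a ha
      rw [← hmem]
      have : π a ∈ A.map π := mem_map_of_mem _ ha
      rw [h] at this
      exact mem_bot.1 this) (by
      rintro _ ⟨g, hg, rfl⟩ _ ⟨x, hx, rfl⟩
      exact ⟨g * x * g⁻¹, hA g hg x hx, by simp⟩)
  -- an element of order `p`
  obtain ⟨k, hk⟩ := PEl.of_mem ((hP.to_le hAP).map π) hw
  have hex : ∃ k, w ^ p ^ k = 1 := ⟨k, hk⟩
  classical
  set j := Nat.find hex with hj
  have hj0 : j ≠ 0 := by
    intro h
    have := Nat.find_spec hex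
    rw [← hj, h, pow_zero, pow_one] at this
    exact hw1 this
  obtain ⟨i, hi⟩ := Nat.exists_eq_succ_of_ne_zero hj0
  have h1 : w ^ p ^ i ≠ 1 := Nat.find_min hex (by rw [← hj, hi]; exact Nat.lt_succ_self i)
  have h2 : (w ^ p ^ i) ^ p = 1 := by
    rw [← pow_mul, ← pow_succ]
    have := Nat.find_spec hex
    rwa [← hj, hi] at this
  obtain ⟨a, ha, rfl⟩ := hw
  refine ⟨a ^ p ^ i, pow_mem ha _, ?_, ?_, ?_⟩
  · rw [← hmem, map_pow]; exact h1
  · intro g hg
    rw [← hmem]
    have h3 := hwc (π g) (mem_map_of_mem _ hg)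
    have h4 : Commute (π g) (π a ^ p ^ i) := (show Commute (π g) (π a) from h3).pow_right _
    rw [map_mul, map_mul, map_mul, map_inv, map_inv, map_pow, h4.eq]
    group
  · rw [← hmem, map_pow, map_pow]; exact h2

/-- data of a special element -/
structure Spec [Finite G] {p : ℕ} [Fact p.Prime] (P : Sylow p G) (x : G) : Prop where
  mem : x ∈ P
  nc : x ∉ center G
  comm : ∀ g ∈ P, g * x * g⁻¹ * x⁻¹ ∈ center G
  pow : x ^ p ∈ center G

theorem Base.exists_spec [Finite G] {p a : ℕ} [hp : Fact p.Prime] (hB : Base G p a)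
    (P : Sylow p G) : ∃ x, Spec P x := by
  obtain ⟨x, hx, h1, h2, h3⟩ := exists_special (A := (P : Subgroup G)) P.2 le_rfl
    (fun g hg x hx => mul_mem (mul_mem hg hx) (inv_mem hg)) (by
      intro h
      obtain ⟨x, hx⟩ := hB.ex
      exact hx (hB.mem_center P (h.trans (center_le_CG x))))
  exact ⟨x, hx, h1, h2, h3⟩

namespace Spec

variable [Finite G] {p a : ℕ} [hp : Fact p.Prime] {P : Sylow p G} {x : G}

theorem pEl (h : Spec P x) : PEl p x := PEl.of_mem P.2 h.mem

/-- `P` normalizes `C(x)`. -/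
theorem conj_CG (h : Spec P x) {g : G} (hg : g ∈ P) : ∀ c ∈ CG x, g * c * g⁻¹ ∈ CG x := by
  intro c hc
  rw [mem_CG] at hc ⊢
  have h1 := h.comm g⁻¹ (inv_mem hg)
  -- g⁻¹ x g = z x
  set z := g⁻¹ * x * g⁻¹⁻¹ * x⁻¹ with hz
  have h2 : g⁻¹ * x * g = z * x := by rw [hz]; group
  have hzc := fun y => mem_center_iff.1 h1 y
  have h3 : c * (g⁻¹ * x * g) = (g⁻¹ * x * g) * c := by
    rw [h2]
    calc c * (z * x) = (c * z) * x := by group
      _ = z * (c * x) := by rw [hzc c]; group
      _ = z * x * c := by rw [hc]; group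
  calc g * c * g⁻¹ * x = g * (c * (g⁻¹ * x * g)) * g⁻¹ := by group
    _ = g * ((g⁻¹ * x * g) * c) * g⁻¹ := by rw [h3]
    _ = x * (g * c * g⁻¹) := by group

/-- the commutator map `g ↦ [g, x]` on the subgroup where it is central -/
theorem comm_mul {x g h : G} (hh : h * x * h⁻¹ * x⁻¹ ∈ center G) :
    (g * h) * x * (g * h)⁻¹ * x⁻¹ = (g * x * g⁻¹ * x⁻¹) * (h * x * h⁻¹ * x⁻¹) := by
  set z := h * x * h⁻¹ * x⁻¹ with hz
  have h2 : h * x * h⁻¹ = z * x := by rw [hz]; group
  have hzc := fun y => mem_center_iff.1 hh y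
  calc (g * h) * x * (g * h)⁻¹ * x⁻¹ = g * (h * x * h⁻¹) * g⁻¹ * x⁻¹ := by group
    _ = (g * z) * x * g⁻¹ * x⁻¹ := by rw [h2]; group
    _ = z * (g * x * g⁻¹ * x⁻¹) := by rw [hzc g]; group
    _ = (g * x * g⁻¹ * x⁻¹) * z := by rw [hzc]

end Spec

end Cfsg.Agent.H558.Cs
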